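import Cfsg.Agent.Spor.Prim
import Cfsg.Agent.Spor.HSpa.Main
import Cfsg.Agent.Spor.HSpa.S.C0

set_option autoImplicit false
set_option maxRecDepth 100000000
set_option Elab.async false

namespace Cfsg.Agent.Spor.HSpa.S

theorem hU : U.Ok 8 := U.ok_of 8 (show AllP (fun n => Net.okb 8 n = true) [n0, n1, n2, n3, n4] from AllP.cons ok0 (AllP.cons ok1 (AllP.cons ok2 (AllP.cons ok3 (AllP.cons ok4 (AllP.nil))))))

theorem hfP : ∀ j < 5, U.fP [1, 3, 5, 7, 9] j = fP j := by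
  intro j hj
  interval_cases j <;> rfl
theorem eG : gsub 5 fP = U.lsub W1 := (gsub_congr hfP).symm.trans (lsub_eq_gsub U [1, 3, 5, 7, 9])
theorem upz1 : ev (atm 5 fP) [0] = U.τ 1 := pz1
theorem upz3 : ev (atm 5 fP) [2] = U.τ 3 := pz2
theorem upz5 : ev (atm 5 fP) [4] = U.τ 5 := pz3
theorem upz7 : ev (atm 5 fP) [6] = U.τ 7 := pz4
theorem upz9 : ev (atm 5 fP) [8] = U.τ 9 := pz5
theorem eH : wsub 5 fP BW = U.lsub W2 :=
  lsub_eq_of_all₂ (show List.Forall₂ _ [[0], [2], [4], [6]] [[1], [3], [5], [7]] from List.Forall₂.cons (upz1.trans (one_mul _).symm) (List.Forall₂.cons (upz3.trans (one_mul _).symm) (List.Forall₂.cons (upz5.trans (one_mul _).symm) (List.Forall₂.cons (upz7.trans (one_mul _).symm) (List.Forall₂.nil)))))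
theorem reach5 : Reach (U.lsub W2) 1 M3 := (Reach.grow hU (Reach.base _ 1) gr4)
theorem reach8 : Reach (U.lsub ([9] :: W2)) 0 (ones 176) := (Reach.grow hU (Reach.base _ 0) gr7)
noncomputable def X : List SubO := [([9], 1, M3)]
theorem hX : AllP (SubOk U W2 W1) X :=
  show AllP (SubOk U W2 W1) [([9], 1, M3)] from AllP.cons ⟨U.mem_letters (by decide), (hU.sends sd6), reach5⟩ (AllP.nil)
theorem hXc : subCov 176 X = true := by decide +kernel
theorem hY : AllP (fun x : SubO => Reach (U.lsub (x.1 :: W2)) 0 (ones 176)) X :=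
  show AllP (fun x : SubO => Reach (U.lsub (x.1 :: W2)) 0 (ones 176)) [([9], 1, M3)] from AllP.cons reach8 (AllP.nil)
theorem hfix : gsub 5 fP ≤ FixFrom 176 := (gsub_congr hfP).symm.le.trans (hU.gsub_fix (gs := [1, 3, 5, 7, 9]) (AllP.cons ff9 (AllP.cons ff10 (AllP.cons ff11 (AllP.cons ff12 (AllP.cons ff13 (AllP.nil)))))))

end Cfsg.Agent.Spor.HSpa.S
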